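import Cfsg.Agent.Cls.BSW1

/-! # Products of conjugate involutions and virtual characters of small norm -/

set_option autoImplicit false

namespace Cfsg.Agent.B84C

open Cfsg Cfsg.Agent.GT Cfsg.Agent.Char Cfsg.Agent.Cls Subgroup Function
open scoped ComplexConjugate Classical

universe u

variable {G : Type u} [Group G] [Fintype G] {H : Type*} [Group H] [Fintype H] {t : G} {α β γ Θ Θ' : G → ℂ}

/-- indicator of a class -/
noncomputable def cI {G : Type*} [Group G] (t u : G) : ℂ := if IsConj t u then 1 else 0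

/-- sum over the products of two conjugates -/
noncomputable def cZ (t : G) (α : G → ℂ) : ℂ := ∑ w, cI t w * ∑ u, cI t u * α (u * w)

/-- number of factorizations -/
noncomputable def cN (t y : G) : ℂ := ∑ u, cI t u * cI t (u⁻¹ * y)

omit [Fintype G] in
theorem cI_class : IsClassFunction G (cI t) := fun g h => by
  have : IsConj g (h * g * h⁻¹) := isConj_iff.2 ⟨h, rfl⟩
  exact if_congr ⟨fun e => e.trans this.symm, fun e => e.trans this⟩ rfl rfl

theorem cN_class : IsClassFunction G (cN t) := fun g h =>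
  Fintype.sum_equiv (MulAut.conj h⁻¹).toEquiv _ _ fun u => by
    rw [← cI_class.conj' u h, ← cI_class.conj' (u⁻¹ * _) h]
    congr 2 <;> simp [mul_assoc]

theorem cZ_add : cZ t (α + β) = cZ t α + cZ t β := by simp [cZ, mul_add, Finset.sum_add_distrib]

theorem cZ_neg : cZ t (-α) = -cZ t α := by simp [cZ]

theorem cZ_sub : cZ t (α - β) = cZ t α - cZ t β := by rw [sub_eq_add_neg, cZ_add, cZ_neg, sub_eq_add_neg]

theorem cZ_eq : cZ t α = ∑ y, α y * cN t y := by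
  simp only [cZ, cN, Finset.mul_sum]
  rw [Finset.sum_comm, Finset.sum_comm (f := fun y u => α y * (cI t u * cI t (u⁻¹ * y)))]
  refine Finset.sum_congr rfl fun u _ => Fintype.sum_equiv (Equiv.mulLeft u) _ _ fun w => ?_
  simp only [Equiv.coe_mulLeft, inv_mul_cancel_left]
  ring

theorem cZ_ind (f : H →* G) (θ : H → ℂ) :
    cZ t (ind f θ) = (Nat.card G : ℂ) / Nat.card H * ∑ y, θ y * cN t (f y) := by
  have c : ∀ y, conj (cN t y) = cN t y := fun y => by simp [cN, cI, apply_ite]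
  have := ci_ind_left f θ (cN_class (t := t))
  simp only [ci_def, c] at this
  rw [cZ_eq, div_eq_mul_inv, mul_assoc, ← this, mul_inv_cancel_left₀ (card_ne_zero_complex G)]

theorem sum_cI (hγ : IsClassFunction G γ) : ∑ u, cI t u * γ u = C1[t].index * γ t := by
  rw [← sum_ite_isConj, Finset.sum_mul]
  refine Finset.sum_congr rfl fun u _ => ?_
  unfold cI
  split_ifs with e
  · rw [hγ.eq_of_isConj e]
  · simp

theorem cZ_sirr (hγ : IsSIrr G γ) : γ 1 * cZ t γ = (C1[t].index : ℂ) ^ 2 * γ t ^ 2 := by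
  have k : ∀ {γ : G → ℂ}, IsIrrCharacter G γ → γ 1 * cZ t γ = (C1[t].index : ℂ) ^ 2 * γ t ^ 2 := fun {γ} hγ => by
    have h1 : ∀ w, γ 1 * (cI t w * ∑ u, cI t u * γ (u * w)) = (C1[t].index * γ t) * (cI t w * γ w) := fun w => by
      rw [mul_left_comm, hγ.sum_class_mul cI_class, sum_cI hγ.isClassFunction]; ring
    rw [cZ, Finset.mul_sum]
    simp only [h1]
    rw [← Finset.mul_sum, sum_cI hγ.isClassFunction]; ring
  rcases hγ with hγ | hγ
  · exact k hγ
  · have := k hγ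
    rw [cZ_neg, Pi.neg_apply, Pi.neg_apply] at this
    linear_combination this

theorem cZ_one : cZ t (fun _ => 1) = (C1[t].index : ℂ) ^ 2 := by
  simpa using cZ_sirr (t := t) isIrrCharacter_one.isSIrr

theorem int_inv (h : IsGeneralizedCharacter G γ) (e : t * t = 1) : ∃ n : ℤ, γ t = n := by
  refine exists_int_of_forall_ringEquiv (h.isIntegral t) fun σ => ?_
  have := h.ringHom_apply (σ : ℂ →+* ℂ) (g := t) (k := 1) fun z hz => by
    obtain ⟨c, hc⟩ := orderOf_dvd_of_pow_eq_one (show t ^ 2 = 1 by rw [sq, e])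
    rcases sq_eq_one_iff.1 (show z ^ 2 = 1 by rw [hc, pow_mul, hz, one_pow]) with rfl | rfl <;> simp
  rwa [pow_one] at this

theorem sum_fib (f : H →* G) (c : H) (v : ℂ) : ∑ b, (if f b = f c then v else 0) = Nat.card f.ker * v := by
  rw [natCard_subtype_eq_sum_ite _ ℂ, Finset.sum_mul]
  exact Fintype.sum_equiv (Equiv.mulLeft c⁻¹) _ _ fun b => by simp [inv_mul_eq_one, eq_comm (a := f c)]

theorem ind_TI (f : H →* G) {θ : H → ℂ} (hθ : IsClassFunction H θ) (hk : ∀ a b, f a = f b → θ a = θ b) (a : H)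
    (h : ∀ x b, f b = x⁻¹ * f a * x → θ b ≠ 0 → x ∈ f.range) : ind f θ (f a) = θ a := by
  have k : ∀ x, (∑ b, if f b = x⁻¹ * f a * x then θ b else 0) = if x ∈ f.range then Nat.card f.ker * θ a else 0 := by
    intro x
    split_ifs with hx
    · obtain ⟨c, rfl⟩ := hx
      rw [← sum_fib f (c⁻¹ * a * c), ← map_inv, ← map_mul, ← map_mul]
      exact Finset.sum_congr rfl fun b _ => if_ctx_congr Iff.rfl (fun e => (hk _ _ e).trans (hθ.conj' a c)) fun _ => rfl
    · exact Finset.sum_eq_zero fun b _ => ite_eq_right_iff.2 fun e => by_contra fun n => hx (h x b e n)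
  have c := card_eq_card_ker_mul f.rangeRestrict f.rangeRestrict_surjective
  rw [ind, Finset.sum_congr rfl fun x _ => k x, Finset.sum_ite, Finset.sum_const_zero, add_zero, Finset.sum_const,
    nsmul_eq_mul, ← Fintype.card_subtype, ← Nat.card_eq_fintype_card, ← mul_assoc (Nat.card f.range : ℂ),
    ← Nat.cast_mul, mul_comm (Nat.card _), ← MonoidHom.ker_rangeRestrict, ← c,
    inv_mul_cancel_left₀ (card_ne_zero_complex H)]

theorem ind_surj (f : H →* G) (hf : Surjective f) (hθ : IsClassFunction G γ) : ind f (fun a => γ (f a)) = γ :=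
  funext fun g => by
    obtain ⟨a, rfl⟩ := hf g
    exact ind_TI f (hθ.comp f) (fun _ _ e => congrArg γ e) a fun x _ _ _ => hf x

theorem indFun_trans (K : Subgroup G) {θ : K → ℂ} (hθ : IsClassFunction K θ) {ι : Type*} [Fintype ι] (r : ι → G)
    (hr : Bijective fun p : ι × K => r p.1 * p.2) (g : G) :
    indFun K θ g = ∑ o, extendByZero K θ ((r o)⁻¹ * g * r o) := by
  have k : ∀ (y : G) (b : K), extendByZero K θ (b.1⁻¹ * y * b) = extendByZero K θ y := fun y b => by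
    by_cases e : y ∈ K
    · rw [extendByZero_of_mem K θ e, ← hθ.conj' ⟨y, e⟩ b, ← extendByZero_coe K θ]; rfl
    · rw [extendByZero_of_not_mem K θ e, extendByZero_of_not_mem]
      rwa [mul_mem_cancel_right b.2, mul_mem_cancel_left (inv_mem b.2)]
  rw [indFun, ← Fintype.sum_bijective _ hr (fun p => extendByZero K θ ((r p.1)⁻¹ * g * r p.1)) _ fun p => by
    rw [← k _ p.2]; simp [mul_assoc], Fintype.sum_prod_type]
  simp [← Finset.mul_sum, inv_mul_cancel_left₀ (Nat.cast_ne_zero.2 Fintype.card_ne_zero : (Fintype.card K : ℂ) ≠ 0)]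

theorem two_term (tt : t * t = 1) (h : IsGeneralizedCharacter G Θ) (h2 : ⟪Θ, Θ⟫ = 2) (h1 : Θ 1 = 0) :
    ∃ (α β : G → ℂ) (N a b : ℤ), IsIrrCharacter G α ∧ IsIrrCharacter G β ∧ ⟪α, β⟫ = 0 ∧ Θ = α - β ∧ α 1 = N ∧
      β 1 = N ∧ α t = a ∧ β t = b ∧ 0 < N ∧ N * cZ t Θ = (C1[t].index : ℂ) ^ 2 * (a ^ 2 - b ^ 2) ∧
      a ^ 2 + b ^ 2 ≤ Nat.card C1[t] := by
  obtain ⟨α, β, ha, hb, ne, rfl⟩ := h.exists_sub_of_nsq_two (nsq_eq_of_ci (by simpa using h2)) h1
  obtain ⟨N, N0, hN⟩ := ha.exists_degree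
  obtain ⟨a, e1⟩ := int_inv ha.virt tt
  obtain ⟨b, e2⟩ := int_inv hb.virt tt
  have e3 : β 1 = N := hN ▸ (sub_eq_zero.1 h1).symm
  refine ⟨α, β, N, a, b, ha, hb, ha.ci_of_ne hb ne, rfl, hN, e3, e1, e2, by exact_mod_cast N0, ?_, ?_⟩
  · have k1 := cZ_sirr (t := t) ha.isSIrr
    have k2 := cZ_sirr (t := t) hb.isSIrr
    rw [hN, e1] at k1
    rw [e3, e2] at k2
    rw [cZ_sub]; push_cast; linear_combination k1 - k2
  · have := Finset.sum_le_sum_of_subset_of_nonneg (f := fun χ : G → ℂ => ‖χ t‖ ^ 2) (s := {α, β}) (t := Irr G)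
      (by simp [Finset.insert_subset_iff, mem_Irr, ha, hb]) fun _ _ _ => sq_nonneg _
    rw [sum_irr_norm_sq, Finset.sum_pair ne, e1, e2] at this
    simp only [Complex.norm_intCast, sq_abs] at this
    exact_mod_cast this

theorem three_term (tt : t * t = 1) (h : IsGeneralizedCharacter G Θ) (h3 : ⟪Θ, Θ⟫ = 3) (ho : ⟪Θ, fun _ => 1⟫ = 1)
    (h1 : Θ 1 = 0) (ht : Θ t = 0) : ∃ α β : G → ℂ, IsSIrr G α ∧ IsSIrr G β ∧ Θ = (fun _ => 1) + (α + β) ∧
      ∀ γ, γ = α ∨ γ = β → ∃ x c : ℤ, γ 1 = x ∧ γ t = c ∧ x ≠ 0 ∧ x + 1 ≠ 0 ∧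
        x * (x + 1) * cZ t Θ = (C1[t].index : ℂ) ^ 2 * (x - c) ^ 2 := by
  obtain ⟨α, β, ha, hb, -, e⟩ := (h.sub virt_one).exists_of_nsq_two (nsq_eq_of_ci (by
    rw [ci_sub_left, ci_sub_right, ci_sub_right, h3, ho, virt_one.ci_comm h, ho, ci_one_one]; norm_num))
  have k : ∀ {α β : G → ℂ}, IsSIrr G α → IsSIrr G β → Θ = (fun _ => 1) + (α + β) → ∃ x c : ℤ, α 1 = x ∧ α t = c ∧
      x ≠ 0 ∧ x + 1 ≠ 0 ∧ x * (x + 1) * cZ t Θ = (C1[t].index : ℂ) ^ 2 * (x - c) ^ 2 := fun {α β} ha hb e => by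
    obtain ⟨x, hx⟩ := ha.virt.exists_int_one
    obtain ⟨c, hc⟩ := int_inv ha.virt tt
    have e1 : β 1 = -(x + 1) := by have := congrFun e 1; simp only [Pi.add_apply] at this; linear_combination h1 - this - hx
    have e2 : β t = -(c + 1) := by have := congrFun e t; simp only [Pi.add_apply] at this; linear_combination ht - this - hc
    have k1 := cZ_sirr (t := t) ha
    have k2 := cZ_sirr (t := t) hb
    rw [hx, hc] at k1
    rw [e1, e2] at k2
    refine ⟨x, c, hx, hc, fun n => ha.apply_one_ne_zero (by simp [hx, n]), fun n => hb.apply_one_ne_zero ?_, ?_⟩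
    · rw [e1, neg_eq_zero]; exact_mod_cast n
    · rw [e, cZ_add, cZ_add, cZ_one]; linear_combination (x + 1) * k1 - x * k2
  have e' := sub_eq_iff_eq_add'.1 e
  refine ⟨α, β, ha, hb, e', ?_⟩
  rintro _ (rfl | rfl)
  exacts [k ha hb e', k hb ha (add_comm α _ ▸ e')]

theorem link (tt : t * t = 1) (h : IsGeneralizedCharacter G Θ) (h3 : ⟪Θ, Θ⟫ = 3) (ho : ⟪Θ, fun _ => 1⟫ = 1)
    (h1 : Θ 1 = 0) (ht : Θ t = 0) (ha : IsIrrCharacter G α) (hb : IsIrrCharacter G β)
    (hl : ⟪Θ, α - β⟫ = 1) (hz : ⟪α - β, fun _ => 1⟫ = 0) : ∃ x c : ℤ, x ≠ 0 ∧ x + 1 ≠ 0 ∧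
      x * (x + 1) * cZ t Θ = (C1[t].index : ℂ) ^ 2 * (x - c) ^ 2 ∧ (α 1 = x ∧ α t = c ∨ β 1 = -x ∧ β t = -c) := by
  obtain ⟨γ, δ, hc, hd, e, k⟩ := three_term tt h h3 ho h1 ht
  have : ∃ ε, (ε = γ ∨ ε = δ) ∧ (ε = α ∨ ε = -β) := by
    rw [e, ci_add_left, virt_one.ci_comm (ha.virt.sub hb.virt), hz, ci_add_left, ci_sub_right, ci_sub_right] at hl
    by_contra n
    push Not at n
    have p : ∀ ε, ε = γ ∨ ε = δ → IsSIrr G ε → (⟪ε, α⟫ - ⟪ε, β⟫).re ≤ 0 := fun ε q s => by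
      have k1 : (⟪ε, α⟫).re ≤ 0 := by
        rcases s.ci_cases ha.isSIrr with a | a | a
        exacts [absurd a.1 (n ε q).1, by simp [a.2], by simp [a.2.2]]
      have k2 : 0 ≤ (⟪ε, β⟫).re := by
        rcases s.ci_cases hb.isSIrr with a | a | a
        exacts [by simp [a.2], absurd a.1 (n ε q).2, by simp [a.2.2]]
      rw [Complex.sub_re]; linarith
    have := congrArg Complex.re hl
    simp only [zero_add, Complex.add_re, Complex.one_re] at this
    linarith [p γ (.inl rfl) hc, p δ (.inr rfl) hd]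
  obtain ⟨ε, q, r⟩ := this
  obtain ⟨x, c, a, b, k⟩ := k ε q
  refine ⟨x, c, k.1, k.2.1, k.2.2, r.imp (fun r : ε = α => r ▸ ⟨a, b⟩) fun r => ?_⟩
  rw [← a, ← b, r]; simp

/-- a linear character as a function -/
def ch {X : Type*} [Group X] (μ : X →* ℂˣ) : X → ℂ := fun x => μ x

theorem ch_irr (μ : G →* ℂˣ) : IsIrrCharacter G (ch μ) := isIrrCharacter_unitsHom μ

theorem ch_virt (μ : G →* ℂˣ) : IsGeneralizedCharacter G (ch μ) := (ch_irr μ).virt

theorem ci_ch (μ ν : G →* ℂˣ) : ⟪ch μ, ch ν⟫ = if μ = ν then 1 else 0 :=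
  ((ch_irr μ).ci_eq_ite (ch_irr ν)).trans (if_congr unitsHom_coe_injective.eq_iff rfl rfl)

end Cfsg.Agent.B84C
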