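import Cfsg.Agent.B84C.A
import Cfsg.Agent.B84.Hy

/-! # The principal series of `GL₂(q)` -/

set_option autoImplicit false

namespace Cfsg.Agent.B84C

open Cfsg Cfsg.Agent.GT Cfsg.Agent.Char Cfsg.Agent.Cl Cfsg.Agent.B84 Subgroup Function
open scoped ComplexConjugate Classical

variable {F : Type*} [Field F]

/-- the diagonal part of a triangular matrix -/
noncomputable def prB : gl2B F →* Fˣ × Fˣ :=
  MonoidHom.mk' (fun g => (.mk0 _ (gl2B_ne_zero g.2).1, .mk0 _ (gl2B_ne_zero g.2).2)) fun a b => by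
    ext <;> simp [gl2_mul, mem_gl2B.1 a.2, mem_gl2B.1 b.2]

theorem prB_eq {g : gl2B F} {a d : Fˣ} (h1 : g.1.1 0 0 = a) (h2 : g.1.1 1 1 = d) : prB g = (a, d) :=
  Prod.ext (Units.ext h1) (Units.ext h2)

/-- coset representatives -/
noncomputable def rr : Option F → GL (Fin 2) F
  | none => 1
  | some c => gl2mk c 1 1 0 (by simp)

theorem rr_inv (c : F) : (rr (some c))⁻¹ = gl2mk 0 1 1 (-c) (by simp) :=
  inv_eq_of_mul_eq_one_right (by simp [gl2_eq_iff, gl2_mul, rr])

theorem rr_bij : Bijective fun p : Option F × gl2B F => rr p.1 * p.2 := by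
  constructor
  · rintro ⟨o, b⟩ ⟨o', b'⟩ e
    obtain rfl : o = o' := by
      obtain ⟨e1, -, e2, -⟩ := gl2_eq_iff.1 e
      have k := (gl2B_ne_zero b.2).1
      have k' := (gl2B_ne_zero b'.2).1
      cases o <;> cases o' <;> simp [gl2_mul, rr, mem_gl2B.1 b.2, mem_gl2B.1 b'.2] at e1 e2
      · rfl
      · exact (k' e2.symm).elim
      · exact (k e2).elim
      · rw [e2] at e1; exact congrArg _ (mul_right_cancel₀ k' e1)
    exact Prod.ext rfl (Subtype.ext (mul_left_cancel e))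
  · intro g
    by_cases h : g.1 1 0 = 0
    · exact ⟨(none, ⟨g, h⟩), one_mul g⟩
    · exact ⟨(some (g.1 0 0 / g.1 1 0), ⟨(rr (some (g.1 0 0 / g.1 1 0)))⁻¹ * g, by
        rw [rr_inv, mem_gl2B, gl2_mul]; simp [h]⟩), mul_inv_cancel_left _ g⟩

variable [Fintype F] {f f' : Fˣ × Fˣ → ℂ}

/-- the function induced from the Borel subgroup -/
noncomputable def II (f : Fˣ × Fˣ → ℂ) : GL (Fin 2) F → ℂ := indFun (gl2B F) fun b => f (prB b)

theorem II_eq (g : GL (Fin 2) F) : II f g = extendByZero (gl2B F) (fun b => f (prB b)) g +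
    ∑ c, extendByZero (gl2B F) (fun b => f (prB b)) ((rr (some c))⁻¹ * g * rr (some c)) := by
  rw [II, indFun_trans _ ((isClassFunction_of_comm f).comp prB) rr rr_bij, Fintype.sum_option]; simp [rr]

theorem II_B (a d : Fˣ) (b : F) :
    II f (gl2mk a b 0 d (by simp)) = f (a, d) + ∑ c, if b + c * (a - d) = 0 then f (d, a) else 0 := by
  rw [II_eq, extendByZero_of_mem _ _ (mem_gl2B.2 rfl), prB_eq rfl rfl]
  refine congrArg _ (Finset.sum_congr rfl fun c _ => ?_)
  have e : ((rr (some c))⁻¹ * gl2mk (a : F) b 0 d (by simp) * rr (some c)).1 1 0 = b + c * (a - d) := by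
    rw [rr_inv]; simp [gl2_mul, rr]; ring
  split_ifs with h
  · rw [extendByZero_of_mem _ _ (mem_gl2B.2 (e.trans h)), prB_eq (a := d) (d := a)] <;> simp only [rr_inv] <;>
      simp [gl2_mul, rr]
  · exact extendByZero_of_not_mem _ _ fun k => h (e.symm.trans k)

theorem II_sc (a : Fˣ) : II f (dg a a) = (Fintype.card F + 1) * f (a, a) := by
  rw [dg, II_B]; simp; ring

theorem II_one : II f 1 = (Fintype.card F + 1) * f 1 := dg_one (F := F) ▸ II_sc 1

theorem II_dg {a d : Fˣ} (h : a ≠ d) : II f (dg a d) = f (a, d) + f (d, a) := by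
  rw [dg, II_B]; simp [sub_eq_zero, Units.val_injective.ne h]

theorem II_sub : II (f - f') = II f - II f' := indFun_sub _ _ _

theorem II_class : IsClassFunction _ (II f) := isClassFunction_indFun _ _

theorem II_virt (h : IsGeneralizedCharacter _ f) : IsGeneralizedCharacter _ (II f) := (h.comp prB).indFun

theorem card_B : Nat.card (gl2B F) = Nat.card (Fˣ × Fˣ) * Fintype.card F := by
  rw [Nat.card_congr gl2BEquiv]; simp [mul_assoc]

theorem card_D : (Nat.card (Fˣ × Fˣ) : ℂ) = (Fintype.card F - 1) ^ 2 := by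
  simp [Fintype.card_units, Nat.cast_sub Fintype.card_pos, sq]

theorem card_GL : Nat.card (GL (Fin 2) F) = (Fintype.card F + 1) * (Nat.card (Fˣ × Fˣ) * Fintype.card F) := by
  rw [← card_B, ← Nat.card_eq_of_bijective _ rr_bij]; simp

theorem q_ne : (Fintype.card F : ℂ) ≠ 0 := Nat.cast_ne_zero.2 Fintype.card_ne_zero

theorem q1_ne : (Fintype.card F : ℂ) + 1 ≠ 0 := Nat.cast_add_one_ne_zero _

theorem ci_II {χ : GL (Fin 2) F → ℂ} (hχ : IsClassFunction _ χ) {k : Fˣ × Fˣ → ℂ}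
    (h : ∀ a d : Fˣ, ∑ b, χ (gl2mk a b 0 d (by simp)) = Fintype.card F * k (a, d)) : ⟪II f, χ⟫ = ⟪f, k⟫ := by
  rw [II, ci_indFun_left _ _ hχ, ci_def, ci_def, ← gl2BEquiv.symm.sum_comp, card_B, Fintype.sum_prod_type,
    Fintype.sum_prod_type, Nat.cast_mul, mul_inv, mul_assoc, Finset.mul_sum]
  refine congrArg _ (Finset.sum_congr rfl fun a _ => ?_)
  rw [Fintype.sum_prod_type, Finset.mul_sum]
  refine Finset.sum_congr rfl fun d _ => ?_
  rw [Finset.sum_congr rfl (g := fun b => f (a, d) * conj (χ (gl2mk a b 0 d (by simp)))) fun b _ => by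
    rw [prB_eq (a := a) (d := d) rfl rfl]; rfl, ← Finset.mul_sum, ← map_sum, h, map_mul, map_natCast, mul_left_comm,
    inv_mul_cancel_left₀ q_ne]

theorem ci_II_II : ⟪II f, II f'⟫ = ⟪f, f'⟫ + ⟪f, f' ∘ Prod.swap⟫ := by
  rw [← ci_add_right]
  refine ci_II II_class fun a d => ?_
  simp only [II_B, Finset.sum_add_distrib]
  rw [Finset.sum_comm]
  simp [add_eq_zero_iff_eq_neg, mul_add]

theorem ci_II_det (η : Fˣ → ℂ) :
    ⟪II f, fun g => η (Matrix.GeneralLinearGroup.det g)⟫ = ⟪f, fun d => η (d.1 * d.2)⟫ :=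
  ci_II ((isClassFunction_of_comm η).comp _) fun a d => by
    rw [Finset.sum_congr rfl (g := fun _ => η (a * d)) fun b _ => congrArg η (Units.ext (by
      simp [Matrix.det_fin_two]))]
    simp

theorem dgH_inj : Injective (dgH (F := F)) := fun _ _ e => Prod.ext (dg_inj.1 e).1 (dg_inj.1 e).2

theorem cent_dg {a d : Fˣ} (h : a ≠ d) {A : GL (Fin 2) F} (e : A * dg a d = dg a d * A) : A ∈ dgH.range := by
  obtain ⟨-, e1, e2, -⟩ := gl2_eq_iff.1 e
  simp only [gl2_mul, dg, gl2mk00, gl2mk01, gl2mk10, gl2mk11] at e1 e2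
  have k : (a : F) - d ≠ 0 := sub_ne_zero.2 (Units.val_injective.ne h)
  obtain ⟨x, y, rfl⟩ := eq_dg ((mul_eq_zero.1 (show A.1 0 1 * (a - d) = 0 by linear_combination -e1)).resolve_right k)
    ((mul_eq_zero.1 (show A.1 1 0 * (a - d) = 0 by linear_combination e2)).resolve_right k)
  exact ⟨(x, y), rfl⟩

theorem index_u (h : (-1 : Fˣ) ≠ 1) : ((C1[dg (1 : Fˣ) (-1)]).index : ℂ) = Fintype.card F * (Fintype.card F + 1) := by
  have e : C1[dg (1 : Fˣ) (-1)] = dgH.range := le_antisymm (fun A hA => cent_dg h.symm (mem_cent1.1 hA)) (by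
    rintro _ ⟨p, rfl⟩; exact mem_cent1.2 (by simp [dgH, dg_mul]))
  have := (dgH (F := F)).range.card_mul_index
  rw [← Nat.card_congr (MonoidHom.ofInjective dgH_inj).toEquiv, card_GL, mul_left_comm] at this
  rw [e, Nat.eq_of_mul_eq_mul_left Nat.card_pos this]; push_cast; ring

theorem cZ_II (h : (-1 : Fˣ) ≠ 1) {μ : Fˣ × Fˣ →* ℂˣ} (hμ : ch μ ∘ Prod.swap ≠ ch μ) :
    cZ (dg 1 (-1)) (II (ch μ)) = 2 * Fintype.card F ^ 2 * (Fintype.card F + 1) * (1 + ch μ (-1, -1)) := by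
  have := cZ_sirr (t := dg 1 (-1)) ((II_virt (ch_virt μ)).isSIrr_of_ci_self (by
    rw [ci_II_II, (ch_irr μ).ci_self, (ch_irr μ).ci_of_ne (show IsIrrCharacter _ (ch μ ∘ Prod.swap) from
      ch_irr (μ.comp (MulEquiv.prodComm.toMonoidHom))) hμ.symm, add_zero]))
  rw [II_one, index_u h, II_dg h.symm] at this
  have k : ∀ x y, ch μ x * ch μ y = ch μ (x * y) := fun x y => by simp [ch]
  have k1 : ch μ 1 = 1 := by simp [ch]
  have k2 := k (1, -1) (1, -1)
  have k3 := k (-1, 1) (-1, 1)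
  have k4 := k (1, -1) (-1, 1)
  simp only [Prod.mk_mul_mk, mul_one, neg_mul_neg, one_mul, Prod.mk_one_one, k1] at k2 k3 k4
  refine mul_left_cancel₀ (q1_ne (F := F)) ?_
  rw [k1] at this
  linear_combination this + (Fintype.card F * (Fintype.card F + 1) : ℂ) ^ 2 * (k2 + k3 + 2 * k4)

/-- the Steinberg character -/
noncomputable def St : GL (Fin 2) F → ℂ := II (fun _ => 1) - fun _ => 1

theorem ci_II_one : ⟪II f, fun _ => 1⟫ = ⟪f, fun _ => 1⟫ := ci_II_det fun _ => 1

theorem St_ci : ⟪St (F := F), fun _ => 1⟫ = 0 := by rw [St, ci_sub_left, ci_II_one, ci_one_one, ci_one_one, sub_self]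

theorem St_virt : IsGeneralizedCharacter _ (St (F := F)) := (II_virt virt_one).sub virt_one

theorem St_sirr : IsSIrr _ (St (F := F)) := St_virt.isSIrr_of_ci_self (by
  nth_rw 2 [St]
  rw [ci_sub_right, St_ci, St, ci_sub_left, ci_II_II, virt_one.ci_comm (II_virt virt_one), ci_II_one]
  simp [ci_one_one, comp_def])

theorem St_sc (a : Fˣ) : St (dg a a) = Fintype.card F := by simp [St, II_sc]

theorem St_dg {a d : Fˣ} (h : a ≠ d) : St (dg a d) = 1 := by simp [St, II_dg h]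

theorem cZ_St (h : (-1 : Fˣ) ≠ 1) : cZ (dg (1 : Fˣ) (-1)) St = Fintype.card F * (Fintype.card F + 1) ^ 2 := by
  have := cZ_sirr (t := dg (1 : Fˣ) (-1)) St_sirr
  rw [← dg_one, St_sc, St_dg h.symm, index_u h] at this
  exact mul_left_cancel₀ (q_ne (F := F)) (by linear_combination this)

end Cfsg.Agent.B84C
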