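import Cfsg.Agent.B84C.B
import Cfsg.Agent.BS.Big

/-! # Induction from the elements whose cyclic group contains the central involution -/

set_option autoImplicit false

namespace Cfsg.Agent.B84C

open Cfsg Cfsg.Agent.GT Cfsg.Agent.Char Cfsg.Agent.Cl Cfsg.Agent.B84 Subgroup Function
open scoped ComplexConjugate Classical

section
variable {G : Type*} [Group G] {i j x k : G}

theorem zp_conj (k : G) (h : i ∈ zpowers x) : k⁻¹ * i * k ∈ zpowers (k⁻¹ * x * k) := by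
  obtain ⟨n, rfl⟩ := h
  exact ⟨n, by simpa using conj_zpow (i := n) (a := k⁻¹) (b := x)⟩

theorem not_odd (ii : i * i = 1) (i1 : i ≠ 1) (h : i ∈ zpowers x) : ¬Odd (orderOf x) := fun o =>
  absurd (o.of_dvd_nat (TT.orderOf_eq_two ii i1 ▸ orderOf_dvd_of_mem_zpowers h)) (by decide)

variable [Finite G]

theorem inv_uniq (ii : i * i = 1) (i1 : i ≠ 1) (jj : j * j = 1) (j1 : j ≠ 1) (hi : i ∈ zpowers x)
    (hj : j ∈ zpowers x) : i = j :=
  ((TT.mem_zpowers_of_sq jj).1 (BS.mem_zpowers_of_orderOf_dvd hj hi (by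
    rw [TT.orderOf_eq_two ii i1, TT.orderOf_eq_two jj j1]))).resolve_left i1

theorem exists_inv (h : ¬Odd (orderOf x)) : ∃ i ∈ zpowers x, i * i = 1 ∧ i ≠ 1 := by
  obtain ⟨m, e⟩ := Nat.not_odd_iff_even.1 h
  have := orderOf_pos x
  exact ⟨x ^ m, pow_mem (mem_zpowers x) m, by rw [← pow_add, ← e, pow_orderOf_eq_one],
    pow_ne_one_of_lt_orderOf (by omega) (by omega)⟩

end

variable {F G : Type*} [Field F] [Fintype F] [Group G] [Fintype G] {φ : GL (Fin 2) F →* G} {g x : G}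
  {θ θ' ψ ψ' : GL (Fin 2) F → ℂ} {y : GL (Fin 2) F}

/-- the central involution lies in the cyclic group generated by `φ y` -/
def Ap (φ : GL (Fin 2) F →* G) (y : GL (Fin 2) F) : Prop := φ (dg (-1) (-1)) ∈ zpowers (φ y)

/-- class functions factoring through `φ` -/
structure Gd (φ : GL (Fin 2) F →* G) (θ : GL (Fin 2) F → ℂ) : Prop where
  cl : IsClassFunction _ θ
  inv : ∀ a b, φ a = φ b → θ a = θ b

omit [Fintype F] [Fintype G] in
theorem tt : φ (dg (-1) (-1)) * φ (dg (-1) (-1)) = 1 := by rw [← map_mul, dg_mul]; simp [dg_one]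

theorem TI_A (h : Hy φ g) {k : G} (h1 : φ (dg (-1) (-1)) ∈ zpowers x) (h2 : φ (dg (-1) (-1)) ∈ zpowers (k⁻¹ * x * k)) :
    k ∈ φ.range := by
  have := inv_uniq (by simpa using TT.conj_mul_self k⁻¹ tt) (by simpa [mul_assoc, inv_mul_eq_one] using h.t1_ne) tt
    h.t1_ne (zp_conj k h1) h2
  exact h.cent.1 (show k * _ = _ * k by nth_rw 1 [← this]; group)

theorem phi0_val (h : Hy φ g) (hθ : Gd φ θ) (s : ∀ y, θ y ≠ 0 → Ap φ y) (hy : Ap φ y) : ind φ θ (φ y) = θ y :=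
  ind_TI φ hθ.cl hθ.inv y fun _ b e n => TI_A h hy (e ▸ s b n)

omit [Fintype F] in
theorem phi0_zero [Fintype (GL (Fin 2) F)] (s : ∀ y, θ y ≠ 0 → Ap φ y)
    (hx : ∀ k, φ (dg (-1) (-1)) ∉ zpowers (k⁻¹ * x * k)) : ind φ θ x = 0 :=
  ind_eq_zero_of_forall fun k a e => by_contra fun n => hx k (e ▸ s a n)

theorem phi0_odd (h : Hy φ g) (s : ∀ y, θ y ≠ 0 → Ap φ y) (hx : Odd (orderOf x)) : ind φ θ x = 0 :=
  phi0_zero s fun k e => not_odd tt h.t1_ne e (by
    rwa [show k⁻¹ * x * k = MulAut.conj k⁻¹ x by simp, MulEquiv.orderOf_eq])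

theorem phi0_ci (h : Hy φ g) (hθ : Gd φ θ') (s : ∀ y, θ y ≠ 0 → Ap φ y) (s' : ∀ y, θ' y ≠ 0 → Ap φ y) :
    ⟪ind φ θ, ind φ θ'⟫ = ⟪θ, θ'⟫ := by
  rw [ci_ind_left _ _ (isClassFunction_ind _ _), ci_def, ci_def]
  refine congrArg _ (Finset.sum_congr rfl fun y _ => ?_)
  by_cases n : θ y = 0
  · simp [n]
  · rw [phi0_val h hθ s' (s y n)]

theorem phi0_one : ⟪ind φ θ, fun _ => 1⟫ = ⟪θ, fun _ => 1⟫ := ci_ind_left _ _ (isClassFunction_const 1)

omit [Fintype G] in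
theorem det_u {a : GL (Fin 2) F} (e : IsConj (dg 1 (-1)) a) : Matrix.GeneralLinearGroup.det a = -1 := by
  rw [← isConj_iff_eq.1 ((Matrix.GeneralLinearGroup.det (n := Fin 2) (R := F)).map_isConj e), det_dg, one_mul]

/-- indicator of the noncentral involutions of the centralizer -/
noncomputable def cJ (φ : GL (Fin 2) F →* G) (v : G) : ℂ := ∑ a, if φ a = v then cI (dg 1 (-1)) a else 0

omit [Fintype G] in
theorem cJ_zero (h : Hy φ g) (n : ¬IsConj (φ (dg (-1) (-1))) x) : cJ φ x = 0 := Finset.sum_eq_zero fun _ _ =>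
  ite_eq_right_iff.2 fun e => if_neg fun c => n (e ▸ (isConj_iff.2 ⟨g, h.g1⟩).trans (φ.map_isConj c))

omit [Fintype G] in
theorem sq_t (h : Hy φ g) (c : IsConj (φ (dg (-1) (-1))) x) : x * x = 1 ∧ x ≠ 1 := by
  obtain ⟨k, rfl⟩ := isConj_iff.1 c
  exact ⟨TT.conj_mul_self k tt, by simpa using h.t1_ne⟩

omit [Fintype G] in
theorem cJ_one (h : Hy φ g) (c : IsConj (φ (dg (-1) (-1))) x) (k : Commute x (φ (dg (-1) (-1))))
    (n : x ≠ φ (dg (-1) (-1))) : cJ φ x = 1 := by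
  obtain ⟨A, rfl⟩ := h.cent.1 k
  obtain ⟨B, e⟩ := (h.invol (sq_t h c).1 (sq_t h c).2).resolve_left n
  have c' : IsConj (dg 1 (-1)) (B * dg 1 (-1) * B⁻¹) := isConj_iff.2 ⟨B, rfl⟩
  rw [← map_inv, ← map_mul, ← map_mul] at e
  generalize B * dg 1 (-1) * B⁻¹ = C at e c'
  rw [cJ, Finset.sum_eq_single C _ fun k => (k (Finset.mem_univ _)).elim, if_pos e.symm, cI, if_pos c']
  refine fun b _ nb => ite_eq_right_iff.2 fun e' => if_neg fun cb => nb (mul_inv_eq_one.1 (h.ker_det ?_ ?_))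
  · rw [map_mul, map_inv, e', e, mul_inv_cancel]
  · rw [map_mul, map_inv, det_u cb, det_u c', mul_inv_cancel]

theorem cI_cJ (h : Hy φ g) (hy : Ap φ y) (v : G) :
    cI (φ (dg (-1) (-1))) v * cI (φ (dg (-1) (-1))) (v⁻¹ * φ y) = cJ φ v * cJ φ (v⁻¹ * φ y) := by
  set t := φ (dg (-1) (-1)) with ht
  by_cases c : IsConj t v
  swap
  · simp only [cI, if_neg c, cJ_zero h c, zero_mul]
  by_cases c' : IsConj t (v⁻¹ * φ y)
  swap
  · simp only [cI, if_neg c', cJ_zero h c', mul_zero]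
  have ty : Commute t (φ y) := commute_of_mem_zpowers hy (mem_zpowers _)
  have iv : v⁻¹ * φ y * v = (φ y)⁻¹ := by
    refine eq_inv_of_mul_eq_one_left ?_
    have := (sq_t h c').1
    rw [TT.inv_of_sq (sq_t h c).1] at this ⊢
    rwa [mul_assoc]
  have vt : Commute v t := h.cent.2 (TI_A h hy (by rw [iv, zpowers_inv]; exact hy))
  have n1 : ∀ w, IsConj t w → t * w ≠ φ y := fun w cw e => by
    have tw : Commute t w := by
      rw [eq_inv_mul_of_mul_eq e]; exact (Commute.refl t).inv_right.mul_right ty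
    rcases (TT.mem_zpowers_of_sq (e ▸ TT.mul_self_of_commute tt (sq_t h cw).1 tw)).1 hy with a | a
    exacts [h.t1_ne a, (sq_t h cw).2 (mul_left_cancel (a := t) (by rw [e, mul_one]; exact a.symm))]
  rw [cJ_one h c vt, cJ_one h c' (vt.inv_left.mul_left ty.symm), cI, cI, if_pos c, if_pos c']
  · exact fun e : _ = t => n1 v c (by rw [← vt.eq, ← e, mul_inv_cancel_left])
  · exact fun e : _ = t => n1 _ c' (by rw [e, mul_inv_cancel_left])

theorem sum_cJ (f : G → ℂ) : ∑ v, cJ φ v * f v = ∑ a, cI (dg 1 (-1)) a * f (φ a) := by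
  simp only [cJ, Finset.sum_mul, ite_mul, zero_mul]
  rw [Finset.sum_comm]
  simp

theorem phi0_cZ (h : Hy φ g) (hθ : Gd φ θ) (s : ∀ y, θ y ≠ 0 → Ap φ y) :
    cZ (φ (dg (-1) (-1))) (ind φ θ) = C1[φ (dg (-1) (-1))].index * cZ (dg 1 (-1)) θ := by
  have k1 : ∀ y, θ y * cN (φ (dg (-1) (-1))) (φ y) = ∑ a, cI (dg 1 (-1)) a * (θ y * cJ φ (φ (a⁻¹ * y))) := fun y => by
    by_cases n : θ y = 0
    · simp [n]
    simp only [cN, cI_cJ h (s y n), mul_left_comm _ (θ y), ← Finset.mul_sum, sum_cJ, map_mul, map_inv]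
  have k2 : ∀ a, ∑ y, θ y * cJ φ (φ (a⁻¹ * y)) = Nat.card φ.ker * ∑ b, cI (dg 1 (-1)) b * θ (a * b) := fun a => by
    rw [← Equiv.sum_comp (Equiv.mulLeft a)]
    simp only [Equiv.coe_mulLeft, inv_mul_cancel_left, cJ, Finset.mul_sum]
    rw [Finset.sum_comm]
    refine Finset.sum_congr rfl fun b _ => ?_
    rw [← sum_fib φ b]
    refine Finset.sum_congr rfl fun y _ => ?_
    by_cases e : φ y = φ b
    · rw [if_pos e, if_pos e.symm, mul_comm, hθ.inv (a * y) (a * b) (by rw [map_mul, map_mul, e])]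
    · rw [if_neg e, if_neg (Ne.symm e), mul_zero]
  have c1 := h.card_H
  have c2 := C1[φ (dg (-1) (-1))].card_mul_index
  rw [cZ_ind, Finset.sum_congr rfl fun y _ => k1 y, Finset.sum_comm, ← c1, ← c2, cZ]
  simp only [← Finset.mul_sum, k2]
  simp only [Finset.mul_sum]
  rw [Finset.sum_comm]
  have := card_ne_zero_complex C1[φ (dg (-1) (-1))]
  have := card_ne_zero_complex φ.ker
  refine Finset.sum_congr rfl fun _ _ => Finset.sum_congr rfl fun _ _ => ?_
  push_cast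
  field_simp

end Cfsg.Agent.B84C
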